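/-!
Machine-generated words for groups of the type of M12. Letters: 1, 3, 5, 7, 9 the five generators of the
centraliser, 11 k, 13 U; the next number is the inverse letter.
-/

namespace Cfsg.Agent.M12Type.Enum

/-- relators of the centraliser -/
def relL : List (List Nat) := [
    [1, 1],
    [2, 2],
    [3, 3],
    [4, 4],
    [5, 5],
    [6, 6],
    [9, 9],
    [10, 10],
    [7, 7, 7],
    [8, 8, 8],
    [1, 3, 1, 4],
    [1, 3, 2, 4],
    [1, 3, 3, 2],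
    [1, 4, 4, 2],
    [1, 5, 1, 6],
    [1, 5, 2, 6],
    [1, 5, 5, 2],
    [1, 6, 6, 2],
    [1, 8, 3, 7],
    [1, 8, 4, 7],
    [1, 9, 9, 2],
    [1, 10, 10, 2],
    [3, 1, 4, 2],
    [3, 2, 4, 2],
    [3, 5, 5, 4],
    [3, 6, 6, 4],
    [3, 7, 1, 8],
    [3, 7, 2, 8],
    [3, 9, 9, 4],
    [3, 10, 10, 4],
    [5, 1, 6, 2],
    [5, 2, 6, 2],
    [5, 3, 3, 6],
    [5, 4, 4, 6],
    [5, 9, 9, 6],
    [5, 10, 10, 6],
    [7, 1, 8, 4],
    [7, 2, 8, 4],
    [7, 3, 3, 8],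
    [7, 4, 4, 8],
    [7, 5, 5, 8],
    [7, 6, 6, 8],
    [7, 9, 7, 10],
    [7, 9, 9, 8],
    [7, 10, 10, 8],
    [8, 1, 1, 7],
    [8, 2, 2, 7],
    [8, 3, 7, 2],
    [8, 4, 7, 2],
    [8, 5, 5, 7],
    [8, 6, 6, 7],
    [8, 9, 8, 10],
    [8, 9, 9, 7],
    [8, 10, 10, 7],
    [9, 1, 1, 10],
    [9, 2, 2, 10],
    [9, 3, 3, 10],
    [9, 4, 4, 10],
    [9, 5, 5, 10],
    [9, 6, 6, 10],
    [9, 7, 10, 7],
    [9, 8, 10, 8],
    [1, 3, 7, 4, 8],
    [1, 3, 8, 2, 7],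
    [1, 5, 9, 4, 10],
    [1, 5, 10, 4, 10],
    [1, 7, 1, 4, 8],
    [1, 7, 2, 4, 8],
    [1, 7, 3, 8, 4],
    [1, 7, 4, 8, 4],
    [1, 7, 7, 7, 2],
    [1, 8, 1, 7, 4],
    [1, 8, 2, 7, 4],
    [1, 8, 8, 8, 2],
    [1, 9, 3, 10, 6],
    [1, 9, 4, 10, 6],
    [3, 7, 3, 8, 2],
    [3, 7, 4, 8, 2],
    [3, 7, 7, 7, 4],
    [3, 8, 1, 7, 2],
    [3, 8, 2, 7, 2],
    [3, 8, 3, 2, 7],
    [3, 8, 4, 2, 7],
    [3, 8, 8, 8, 4],
    [3, 9, 1, 6, 10],
    [3, 9, 2, 6, 10],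
    [3, 9, 5, 2, 10],
    [3, 9, 6, 2, 10],
    [5, 7, 7, 7, 6],
    [5, 8, 8, 8, 6]]

/-- the word for z -/
def wz : List Nat := [3, 5, 3, 5]

/-- the word for b -/
def wb : List Nat := [5]

/-- the word for the element of order 3 normalising the four group of the second class -/
def wn : List Nat := [7]

/-- the word for the fourth generator of C(b) -/
def w3 : List Nat := [8, 5, 3, 7]

/-- the word for the fifth generator of C(b) -/
def w4 : List Nat := [1, 8, 5, 9]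

/-- the images of the four words under k -/
def fW : List (List Nat) := [
    [5],
    [3, 5, 3],
    [1, 8, 9],
    [8, 5, 7]]

/-- the three generators of M12 as words -/
def backW : List (List Nat) := [
    [9, 11, 13, 5, 8, 5, 14],
    [1, 11, 8, 9, 14, 5, 7],
    [8, 9, 1, 13, 11, 7, 5]]

/-- codes of the seven generators in M12, with inverses -/
def modelGens : List (Nat × Nat) := [(0x2d176519cc3c530acda47cae810c01, 0x2d176519cc3c530acda47cae810c01), (0x8cceab32e6594927d109ac1cd08062, 0x8cceab32e6594927d109ac1cd08062), (0x72e959b4b07de4cb28c83a62408062, 0x72e959b4b07de4cb28c83a62408062), (0x759f3542ec3c5125d124a98ad08c40, 0x8d8eaa31d2adc905cd2d798a810460), (0x8da6fac2f2a390c59ccd524a410c20, 0x8da6fac2f2a390c59ccd524a410c20), (0x795d7a8549a4c6d8ac46b00f264088, 0xa1e6f71162bd583546002a2c16a646), (0xa2ef57b54874c2429c028a6c364246, 0xa9697704e29be43b44d05016c221a9)]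

end Cfsg.Agent.M12Type.Enum
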